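import Groth.Agent.Pure6.Basic
import Groth.Agent.CommAlg6.DepthOne
import Groth.Agent.CAlgH3.Depth

/-! Closedness along a set of primes, in terms of depth. -/

set_option linter.style.haveILetI false

universe u

open AlgebraicGeometry CategoryTheory Opposite IsLocalRing
open scoped Pointwise

namespace Groth.Agent.Pure6

variable {A : Type u} [CommRing A] (J : Ideal A) (M : Type u) [AddCommGroup M] [Module A M]

/-- Families of germs off `V(J)` that are locally fractions. -/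
abbrev Fam : Type u :=
  ∀ p : _root_.PrimeSpectrum A, ¬ J ≤ (p : _root_.PrimeSpectrum A).asIdeal →
    LocalizedModule (p : _root_.PrimeSpectrum A).asIdeal.primeCompl M

variable {J M}

/-- `σ` is locally a fraction. -/
def IsLocFrac (σ : Fam J M) : Prop :=
  ∀ (p : PrimeSpectrum A), ¬ J ≤ p.asIdeal → ∃ (r : M) (s : A), s ∈ J ∧ s ∉ p.asIdeal ∧
    ∀ (q : PrimeSpectrum A) (hq : ¬ J ≤ q.asIdeal) (hs : s ∉ q.asIdeal), σ q hq = LocalizedModule.mk r ⟨s, hs⟩

theorem mem_openCompl {p : PrimeSpectrum A} : p ∈ EGA4.openCompl A J ↔ ¬ J ≤ p.asIdeal := Iff.rfl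

theorem restrCompl_surjective_iff :
    Function.Surjective (EGA4.restrCompl A J M) ↔
      ∀ σ : Fam J M, IsLocFrac σ → ∃ m : M, ∀ p hp, σ p hp = LocalizedModule.mk m 1 := by
  constructor
  · intro h σ hσ
    let sec : (EGA4.tildeOf A M).val.obj (op (EGA4.openCompl A J)) := ⟨fun x => σ x.1 x.2, fun x => by
      obtain ⟨r, s, hsJ, hs, hr⟩ := hσ x.1 x.2
      refine ⟨PrimeSpectrum.basicOpen s ⊓ EGA4.openCompl A J, ⟨hs, x.2⟩, homOfLE inf_le_right, r, s,
        fun y => ⟨y.2.1, hr y.1 y.2.2 y.2.1⟩⟩⟩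
    obtain ⟨w, hw⟩ := h sec
    obtain ⟨m, rfl⟩ := (toSec_bijective M).2 w
    exact ⟨m, fun p hp => (congrFun (congrArg Subtype.val hw) ⟨p, hp⟩).symm⟩
  · intro h sec
    have hsec : IsLocFrac (fun p hp => sec.1 ⟨p, hp⟩ : Fam J M) := by
      intro p hp
      obtain ⟨V, hpV, i, r, s, hr⟩ := sec.2 ⟨p, hp⟩
      obtain ⟨B, ⟨g, rfl⟩, hgp, hgV⟩ := PrimeSpectrum.isTopologicalBasis_basic_opens.exists_subset_of_mem_open
        hpV V.2
      obtain ⟨e, he, he'⟩ := SetLike.not_le_iff_exists.1 hp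
      obtain ⟨hsp, -⟩ := hr ⟨p, hpV⟩
      refine ⟨(g * e) • r, g * e * s, J.mul_mem_right _ (J.mul_mem_left _ he),
        fun hmem => (p.2.mem_or_mem hmem).elim (fun hge => (p.2.mem_or_mem hge).elim hgp he') hsp,
        fun q hq hs => ?_⟩
      have hgeq : g * e ∉ q.asIdeal := fun hmem => hs (q.asIdeal.mul_mem_right _ hmem)
      have hgq : g ∉ q.asIdeal := fun hmem => hgeq (q.asIdeal.mul_mem_right _ hmem)
      obtain ⟨hsq, e1⟩ := hr ⟨q, hgV hgq⟩
      refine (show sec.1 ⟨q, hq⟩ = LocalizedModule.mk r ⟨s, hsq⟩ from e1).trans ?_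
      rw [LocalizedModule.mk_eq]
      exact ⟨1, by simp [Submonoid.smul_def, smul_smul, mul_comm]⟩
    obtain ⟨m, hm⟩ := h _ hsec
    exact ⟨toSec M ⊤ m, Subtype.ext (funext fun x => (hm x.1 x.2).symm)⟩

theorem restrCompl_injective_iff :
    Function.Injective (EGA4.restrCompl A J M) ↔
      ∀ m : M, (∀ p : PrimeSpectrum A, ¬ J ≤ p.asIdeal → ∃ s, s ∉ p.asIdeal ∧ s • m = 0) → m = 0 := by
  have key : ∀ m : M, toSec M (EGA4.openCompl A J) m = 0 ↔
      ∀ p : PrimeSpectrum A, ¬ J ≤ p.asIdeal → ∃ s, s ∉ p.asIdeal ∧ s • m = 0 := fun m => by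
    rw [toSec_eq_zero_iff]
    exact forall_congr' fun p => imp_congr Iff.rfl (mk_eq_zero_iff p m)
  have h0 : toSec (A := A) M ⊤ 0 = 0 := map_zero (tilde.toOpen (ModuleCat.of (CommRingCat.of A) M) ⊤).hom
  constructor
  · intro h m hm
    refine (toSec_bijective M).1 (h ?_)
    rw [h0, map_zero, restrCompl_toSec]
    exact (key m).mpr hm
  · intro h
    refine (injective_iff_map_eq_zero (EGA4.restrCompl A J M).hom).mpr fun x hx => ?_
    obtain ⟨m, rfl⟩ := (toSec_bijective M).2 x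
    have hx' : toSec M (EGA4.openCompl A J) m = 0 := hx
    rw [h m ((key m).mp hx'), h0]

theorem exists_pow_smul_eq_zero {u : M} {f : A}
    (h : ∀ p : PrimeSpectrum A, f ∉ p.asIdeal → ∃ s, s ∉ p.asIdeal ∧ s • u = 0) :
    ∃ n : ℕ, f ^ n • u = 0 := by
  let I : Ideal A := LinearMap.ker (LinearMap.toSpanSingleton A M u)
  have hf : f ∈ I.radical := by
    rw [Ideal.radical_eq_sInf, Ideal.mem_sInf]
    rintro q ⟨hIq, hq⟩
    by_contra hfq
    obtain ⟨s, hs, hsu⟩ := h ⟨q, hq⟩ hfq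
    exact hs (hIq (by simpa [I, LinearMap.mem_ker, LinearMap.toSpanSingleton_apply] using hsu))
  obtain ⟨n, hn⟩ := hf
  exact ⟨n, by simpa [I, LinearMap.mem_ker, LinearMap.toSpanSingleton_apply] using hn⟩

/-- The ideal of multipliers that make a family of germs extend. -/
def extIdeal (σ : Fam J M) : Ideal A where
  carrier := {a | ∃ m : M, ∀ p hp, a • σ p hp = LocalizedModule.mk m 1}
  add_mem' := by
    rintro a b ⟨m, hm⟩ ⟨n, hn⟩
    exact ⟨m + n, fun p hp => by
      rw [add_smul, hm, hn, LocalizedModule.mk_add_mk]; simp⟩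
  zero_mem' := ⟨0, fun p hp => by rw [zero_smul, LocalizedModule.zero_mk]⟩
  smul_mem' := by
    rintro c a ⟨m, hm⟩
    exact ⟨c • m, fun p hp => by rw [smul_eq_mul, mul_smul, hm, LocalizedModule.smul'_mk]⟩

theorem not_extIdeal_le [IsNoetherianRing A] {σ : Fam J M} (hσ : IsLocFrac σ) (p : PrimeSpectrum A)
    (hp : ¬ J ≤ p.asIdeal) : ¬ extIdeal σ ≤ p.asIdeal := by
  classical
  let S : Set A := {s | s ∈ J ∧ ∃ r, ∀ (q : PrimeSpectrum A) (hq : ¬ J ≤ q.asIdeal) (hs : s ∉ q.asIdeal),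
    σ q hq = LocalizedModule.mk r ⟨s, hs⟩}
  obtain ⟨S', hS', hspan⟩ := (Submodule.fg_span_iff_fg_span_finset_subset S).1
    (IsNoetherian.noetherian (Submodule.span A S))
  have hcover : ∀ q : PrimeSpectrum A, ¬ J ≤ q.asIdeal → ∃ s ∈ S', s ∉ q.asIdeal := fun q hq => by
    by_contra! hc
    obtain ⟨r, s, hsJ, hs, hr⟩ := hσ q hq
    have : s ∈ Submodule.span A (S' : Set A) := hspan ▸ Submodule.subset_span ⟨hsJ, r, hr⟩
    exact hs ((Submodule.span_le.2 fun x hx => hc x hx : Submodule.span A (S' : Set A) ≤ q.asIdeal) this)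
  have hr : ∀ t : S', ∃ r : M, ∀ (q : PrimeSpectrum A) (hq : ¬ J ≤ q.asIdeal) (hs : (t : A) ∉ q.asIdeal),
      σ q hq = LocalizedModule.mk r (⟨(t : A), hs⟩ : q.asIdeal.primeCompl) := fun t => (hS' t.2).2
  choose r hr using hr
  have hkill : ∀ i j : S', ∃ n : ℕ, ((i : A) * j) ^ n • ((i : A) • r j - (j : A) • r i) = 0 := fun i j => by
    refine exists_pow_smul_eq_zero fun q hq => ?_
    have hi : (i : A) ∉ q.asIdeal := fun h => hq (q.asIdeal.mul_mem_right _ h)
    have hj : (j : A) ∉ q.asIdeal := fun h => hq (q.asIdeal.mul_mem_left _ h)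
    have hqJ : ¬ J ≤ q.asIdeal := fun h => hi (h (hS' i.2).1)
    have e := (hr i q hqJ hi).symm.trans (hr j q hqJ hj)
    obtain ⟨c, hc⟩ := LocalizedModule.mk_eq.1 e
    refine ⟨c, c.2, ?_⟩
    simp only [Submonoid.smul_def] at hc
    rw [smul_sub, ← hc, sub_self]
  choose n hn using hkill
  let k := Finset.univ.sup fun ij : S' × S' => n ij.1 ij.2
  obtain ⟨s0, hs0, hs0p⟩ := hcover p hp
  let i : S' := ⟨s0, hs0⟩
  have hmem : (i : A) ^ (k + 1) ∈ extIdeal σ := by
    refine ⟨(i : A) ^ k • r i, fun q hq => ?_⟩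
    obtain ⟨t, ht, htq⟩ := hcover q hq
    rw [hr ⟨t, ht⟩ q hq htq, LocalizedModule.smul'_mk, LocalizedModule.mk_eq]
    refine ⟨⟨t ^ k, q.asIdeal.primeCompl.pow_mem htq k⟩, ?_⟩
    have hz : ((i : A) * t) ^ k • ((i : A) • r ⟨t, ht⟩ - t • r i) = 0 := by
      rw [← Nat.sub_add_cancel (Finset.le_sup (f := fun ij : S' × S' => n ij.1 ij.2)
        (Finset.mem_univ (i, ⟨t, ht⟩)) : n i ⟨t, ht⟩ ≤ k), pow_add, mul_smul, hn i ⟨t, ht⟩, smul_zero]
    rw [smul_sub, sub_eq_zero, smul_smul, smul_smul] at hz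
    simp only [Submonoid.smul_def, OneMemClass.coe_one, one_smul, smul_smul]
    calc (t ^ k * (i : A) ^ (k + 1)) • r ⟨t, ht⟩ = (((i : A) * t) ^ k * i) • r ⟨t, ht⟩ := by ring_nf
      _ = (((i : A) * t) ^ k * t) • r i := hz
      _ = _ := by ring_nf
  exact fun hle => hs0p (p.2.mem_of_pow_mem _ (hle hmem))

theorem regular_of_isUnit_mul {B N : Type*} [CommRing B] [AddCommGroup N] [Module B N] {c z : B}
    (hc : IsUnit c) (hz : IsSMulRegular N z) : IsSMulRegular N (c * z) :=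
  (hc.isSMulRegular N).mul hz

/-- Depth two off which everything extends. -/
theorem surjective_of_depth [IsNoetherianRing A] [Module.Finite A M]
    (hpure : ∀ m : M, (∀ p : PrimeSpectrum A, ¬ J ≤ p.asIdeal → ∃ s, s ∉ p.asIdeal ∧ s • m = 0) → m = 0)
    (hdepth : ∀ p : PrimeSpectrum A, J ≤ p.asIdeal →
      (2 : ℕ∞) ≤ _root_.LocCoh.depth (Localization.AtPrime p.asIdeal) (LocalizedModule p.asIdeal.primeCompl M))
    (σ : Fam J M) (hσ : IsLocFrac σ) : ∃ m : M, ∀ p hp, σ p hp = LocalizedModule.mk m 1 := by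
  classical
  by_contra hcon
  have h1 : extIdeal σ ≠ ⊤ := fun h => by
    obtain ⟨m, hm⟩ := (Ideal.eq_top_iff_one _).1 h
    exact hcon ⟨m, fun p hp => by rw [← hm p hp, one_smul]⟩
  obtain ⟨p, hp⟩ := Ideal.nonempty_minimalPrimes h1
  haveI := hp.1.1
  have hpJ : J ≤ p := by
    by_contra h
    exact not_extIdeal_le hσ ⟨p, inferInstance⟩ h hp.1.2
  let Ap := Localization.AtPrime p
  let Mp := LocalizedModule p.primeCompl M
  let f := LocalizedModule.mkLinearMap p.primeCompl M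
  have hd : (2 : ℕ∞) ≤ _root_.LocCoh.depth Ap Mp := hdepth ⟨p, inferInstance⟩ hpJ
  have hpow : ∀ x ∈ p, ∃ c ∉ p, ∃ k : ℕ, c * x ^ k ∈ extIdeal σ := by
    intro x hx
    by_contra! hc
    have hdisj : Disjoint (extIdeal σ : Set A) ((p.primeCompl ⊔ Submonoid.powers x : Submonoid A) : Set A) := by
      rw [Set.disjoint_left]
      intro z hz hz'
      obtain ⟨c, hcp, d, ⟨k, rfl⟩, rfl⟩ := Submonoid.mem_sup.1 hz'
      exact hc c hcp k hz
    obtain ⟨q, hq, hle, hdis⟩ := Ideal.exists_le_prime_disjoint _ _ hdisj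
    have hqp : q ≤ p := fun z hz => by
      by_contra hzp
      exact Set.disjoint_left.1 hdis hz (Submonoid.mem_sup_left hzp)
    exact Set.disjoint_left.1 hdis (hp.2 ⟨hq, hle⟩ hqp hx) (Submonoid.mem_sup_right ⟨1, by simp⟩)
  have lift' : ∀ xl ∈ maximalIdeal Ap, ∃ a ∈ extIdeal σ, algebraMap A Ap a ∈ maximalIdeal Ap ∧
      ∀ (N : Type u) [AddCommGroup N] [Module Ap N], IsSMulRegular N xl → IsSMulRegular N (algebraMap A Ap a) := by
    intro xl hxl
    obtain ⟨⟨x, s⟩, rfl⟩ := IsLocalization.mk'_surjective p.primeCompl xl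
    have hx : x ∈ p := (IsLocalization.AtPrime.mk'_mem_maximal_iff Ap p x s).1 hxl
    obtain ⟨c, hc, k, hk⟩ := hpow x hx
    refine ⟨c * x ^ (k + 1), by rw [pow_succ, ← mul_assoc]; exact Ideal.mul_mem_right _ _ hk,
      (IsLocalization.AtPrime.to_map_mem_maximal_iff Ap p _).2
        (p.mul_mem_left _ (Ideal.pow_mem_of_mem p hx (k + 1) (Nat.succ_pos k))), fun N _ _ hreg => ?_⟩
    rw [map_mul, map_pow]
    refine regular_of_isUnit_mul (IsLocalization.map_units Ap (⟨c, hc⟩ : p.primeCompl)) (IsSMulRegular.pow _ ?_)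
    have e : algebraMap A Ap x = algebraMap A Ap s * IsLocalization.mk' Ap x s := by
      rw [mul_comm, IsLocalization.mk'_spec]
    rw [e]
    exact regular_of_isUnit_mul (IsLocalization.map_units Ap s) hreg
  choose m hm using fun a : extIdeal σ => a.2
  have hcomm : ∀ a b : extIdeal σ, (b : A) • m a = (a : A) • m b := fun a b => by
    refine sub_eq_zero.1 (hpure _ fun q hq => ?_)
    have e1 := congrArg ((b : A) • ·) (hm a q hq)
    have e2 := congrArg ((a : A) • ·) (hm b q hq)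
    simp only [LocalizedModule.smul'_mk] at e1 e2
    rw [smul_comm] at e1
    obtain ⟨c, hc⟩ := LocalizedModule.mk_eq.1 (e1.symm.trans e2)
    refine ⟨c, c.2, ?_⟩
    simp only [Submonoid.smul_def, OneMemClass.coe_one, one_smul] at hc
    rw [smul_sub, hc, sub_self]
  have hfc : ∀ a b : extIdeal σ, algebraMap A Ap b • f (m a) = algebraMap A Ap a • f (m b) := fun a b => by
    rw [algebraMap_smul, algebraMap_smul, ← map_smul, ← map_smul, hcomm]
  -- the extension over the local ring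
  obtain ⟨μ, hμ⟩ : ∃ μ : Mp, ∀ a : extIdeal σ, f (m a) = (a : A) • μ := by
    rcases subsingleton_or_nontrivial Mp with hs | hs
    · exact ⟨0, fun a => Subsingleton.elim _ _⟩
    obtain ⟨xl, hxl, hxr⟩ := CAlgH3.exists_regular_of_one_le_depth (R := Ap) (M := Mp)
      (le_trans (by norm_num) hd)
    obtain ⟨a1, ha1, ha1m, ha1r⟩ := lift' xl hxl
    have hr1 := ha1r Mp hxr
    have hd' : (1 : ℕ∞) ≤ _root_.LocCoh.depth Ap (QuotSMulTop (algebraMap A Ap a1) Mp) := by
      have e := CAlgH3.depth_quotSMulTop_add_one ha1m hr1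
      rw [← e, show (2 : ℕ∞) = 1 + 1 from (one_add_one_eq_two).symm] at hd
      exact (ENat.add_le_add_iff_right ENat.one_ne_top).1 hd
    rw [CommAlg6.one_le_depth_iff] at hd'
    obtain ⟨yl, hyl, hyr⟩ := CAlgH3.exists_regular_iff_notMem_associatedPrimes.2 hd'
    obtain ⟨a2, ha2, ha2m, ha2r⟩ := lift' yl hyl
    have hr2 := ha2r _ hyr
    obtain ⟨μ, -, hμ⟩ : ∃ μ ∈ (⊤ : Submodule Ap Mp), algebraMap A Ap a1 • μ = f (m ⟨a1, ha1⟩) := by
      rw [← Submodule.mem_smul_pointwise_iff_exists, ← Submodule.Quotient.mk_eq_zero]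
      refine hr2.right_eq_zero_of_smul ?_
      rw [← Submodule.Quotient.mk_smul, Submodule.Quotient.mk_eq_zero, hfc ⟨a1, ha1⟩ ⟨a2, ha2⟩]
      exact Submodule.smul_mem_pointwise_smul _ _ _ Submodule.mem_top
    refine ⟨μ, fun a => hr1 ?_⟩
    show algebraMap A Ap a1 • f (m a) = algebraMap A Ap a1 • ((a : A) • μ)
    rw [hfc a ⟨a1, ha1⟩, ← hμ, ← algebraMap_smul Ap (a : A) μ, smul_comm]
  obtain ⟨⟨m0, s⟩, hm0⟩ := IsLocalizedModule.mk'_surjective p.primeCompl f μ
  have ht : ∀ a : extIdeal σ, ∃ t : p.primeCompl, (t : A) • ((s : A) • m a - (a : A) • m0) = 0 := fun a => by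
    refine (IsLocalizedModule.eq_zero_iff p.primeCompl f).1 ?_
    rw [map_sub, map_smul, map_smul, hμ, ← hm0, Function.uncurry_apply_pair, smul_comm,
      ← Submonoid.smul_def, IsLocalizedModule.mk'_cancel', sub_self]
  choose t ht using ht
  obtain ⟨G, hG⟩ := Submodule.fg_def.1 (IsNoetherian.noetherian (⊤ : Submodule A (extIdeal σ)))
  have : (s : A) * ∏ g ∈ hG.1.toFinset, (t g : A) ∈ extIdeal σ := by
    let T := ∏ g ∈ hG.1.toFinset, (t g : A)
    refine ⟨T • m0, fun q hq => ?_⟩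
    obtain ⟨a, haG, ha⟩ : ∃ a ∈ G, (a : A) ∉ q.asIdeal := by
      by_contra! hc
      refine not_extIdeal_le hσ q hq fun z hz => ?_
      have hzs : (⟨z, hz⟩ : extIdeal σ) ∈ Submodule.span A G := hG.2 ▸ Submodule.mem_top
      exact (Submodule.span_le.2 (fun g hg => hc g hg) :
        Submodule.span A G ≤ Submodule.comap (extIdeal σ).subtype q.asIdeal) hzs
    have hT : T • (((s : A) • m a - (a : A) • m0)) = 0 := by
      obtain ⟨d, hd'⟩ := Finset.dvd_prod_of_mem (fun g => (t g : A)) (hG.1.mem_toFinset.2 haG)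
      rw [show T = (t a : A) * d from hd', mul_comm, mul_smul, ht, smul_zero]
    have hu : IsUnit (algebraMap A (Module.End A (LocalizedModule q.asIdeal.primeCompl M)) a) :=
      IsLocalizedModule.map_units (LocalizedModule.mkLinearMap q.asIdeal.primeCompl M)
        (⟨(a : A), ha⟩ : q.asIdeal.primeCompl)
    refine ((Module.End.isUnit_iff _).1 hu).1 ?_
    show (a : A) • ((s : A) * T) • σ q hq = (a : A) • LocalizedModule.mk (T • m0) 1
    rw [smul_comm, hm a q hq, LocalizedModule.smul'_mk, LocalizedModule.smul'_mk]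
    congr 1
    rw [smul_sub, sub_eq_zero] at hT
    rw [mul_comm, mul_smul, hT, smul_comm]
  rcases (‹p.IsPrime›).mem_or_mem (hp.1.2 this) with h | h
  · exact s.2 h
  · obtain ⟨g, -, hg⟩ := (Ideal.IsPrime.prod_mem_iff (hp := ‹p.IsPrime›)).1 h
    exact (t g).2 hg

/-- Closedness at `V(p)` forces depth two at `p`. -/
theorem depth_of_closed [IsNoetherianRing A] [Module.Finite A M] (p : Ideal A) [p.IsPrime]
    (hinj : ∀ m : M, (∀ q : PrimeSpectrum A, ¬ p ≤ q.asIdeal → ∃ s, s ∉ q.asIdeal ∧ s • m = 0) → m = 0)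
    (hsurj : ∀ σ : Fam p M, IsLocFrac σ → ∃ m : M, ∀ q hq, σ q hq = LocalizedModule.mk m 1)
    (hnass : p ∉ associatedPrimes A M) :
    (2 : ℕ∞) ≤ _root_.LocCoh.depth (Localization.AtPrime p) (LocalizedModule p.primeCompl M) := by
  classical
  let Ap := Localization.AtPrime p
  let Mp := LocalizedModule p.primeCompl M
  let f := LocalizedModule.mkLinearMap p.primeCompl M
  rcases subsingleton_or_nontrivial Mp with hs | hs
  · rw [CAlgH3.depth_eq_top_of_subsingleton]
    exact le_top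
  obtain ⟨xl, hxl, hxr⟩ := CAlgH3.exists_regular_of_one_le_depth (R := Ap) (M := Mp)
    ((CommAlg6.one_le_depth_localized_iff p).2 hnass)
  obtain ⟨⟨x, sx⟩, rfl⟩ := IsLocalization.mk'_surjective p.primeCompl xl
  have hx : x ∈ p := (IsLocalization.AtPrime.mk'_mem_maximal_iff Ap p x sx).1 hxl
  have hxm : algebraMap A Ap x ∈ maximalIdeal Ap := (IsLocalization.AtPrime.to_map_mem_maximal_iff Ap p x).2 hx
  have hr : IsSMulRegular Mp (algebraMap A Ap x) := by
    rw [show algebraMap A Ap x = algebraMap A Ap sx * IsLocalization.mk' Ap x sx by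
      rw [mul_comm, IsLocalization.mk'_spec]]
    exact regular_of_isUnit_mul (IsLocalization.map_units Ap sx) hxr
  rw [← CAlgH3.depth_quotSMulTop_add_one hxm hr, show (2 : ℕ∞) = 1 + 1 from (one_add_one_eq_two).symm]
  refine (ENat.add_le_add_iff_right ENat.one_ne_top).2 ?_
  rw [CommAlg6.one_le_depth_iff]
  intro hass
  obtain ⟨-, ξ, hξ⟩ := (isAssociatedPrime_iff (R := Ap)).mp hass
  obtain ⟨η, rfl⟩ := Submodule.Quotient.mk_surjective _ ξ
  obtain ⟨⟨m, s0⟩, rfl⟩ := IsLocalizedModule.mk'_surjective p.primeCompl f η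
  rw [Function.uncurry_apply_pair] at hξ
  have hmem : ∀ a ∈ p, ∃ (t : p.primeCompl) (n : M), (t : A) • (a • m) = x • n := by
    intro a ha
    have h1 : algebraMap A Ap a ∈ maximalIdeal Ap := (IsLocalization.AtPrime.to_map_mem_maximal_iff Ap p a).2 ha
    rw [hξ, Submodule.mem_colon_singleton, Submodule.mem_bot, ← Submodule.Quotient.mk_smul,
      Submodule.Quotient.mk_eq_zero, Submodule.mem_smul_pointwise_iff_exists] at h1
    obtain ⟨μ, -, hμ⟩ := h1
    obtain ⟨⟨n, u⟩, rfl⟩ := IsLocalizedModule.mk'_surjective p.primeCompl f μ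
    rw [Function.uncurry_apply_pair, algebraMap_smul, algebraMap_smul, ← IsLocalizedModule.mk'_smul,
      ← IsLocalizedModule.mk'_smul] at hμ
    obtain ⟨c, hc⟩ := (IsLocalizedModule.mk'_eq_mk'_iff f _ _ _ _).1 hμ
    simp only [Submonoid.smul_def] at hc
    refine ⟨c * u, ((c : A) * s0) • n, ?_⟩
    rw [Submonoid.coe_mul, mul_smul, hc, smul_smul, smul_smul, smul_smul]
    congr 1
    ring
  obtain ⟨k, g, hg⟩ := Submodule.fg_iff_exists_fin_generating_family.1 (IsNoetherian.noetherian p)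
  have hgp : ∀ i, g i ∈ p := fun i => hg ▸ Submodule.subset_span ⟨i, rfl⟩
  choose t n htn using fun i => hmem (g i) (hgp i)
  have hT0 : ∀ i, ∃ n', (∏ j, (t j : A)) • (g i • m) = x • n' := fun i => by
    obtain ⟨d, hd⟩ := Finset.dvd_prod_of_mem (fun j => (t j : A)) (Finset.mem_univ i)
    exact ⟨d • n i, by rw [show (∏ j, (t j : A)) = (t i : A) * d from hd, mul_comm, mul_smul, htn, smul_comm]⟩
  choose n' hn' using hT0
  have hcons : ∀ i j, ∃ c : p.primeCompl, (c : A) • (g j • n' i - g i • n' j) = 0 := fun i j => by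
    refine (IsLocalizedModule.eq_zero_iff p.primeCompl f).1 (hr.right_eq_zero_of_smul ?_)
    rw [algebraMap_smul, ← map_smul, smul_sub, smul_comm x, smul_comm x (g i), ← hn', ← hn',
      smul_comm (∏ j, (t j : A)) (g i) m, smul_comm (∏ j, (t j : A)) (g j) m,
      smul_comm (g j) (g i), sub_self, map_zero]
  choose c hc using hcons
  let T1 := ∏ ij : Fin k × Fin k, (c ij.1 ij.2 : A)
  let m' := (T1 * ∏ j, (t j : A)) • m
  let N : Fin k → M := fun i => T1 • n' i
  have hN : ∀ i, g i • m' = x • N i := fun i => by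
    show g i • ((T1 * ∏ j, (t j : A)) • m) = x • (T1 • n' i)
    rw [mul_smul, smul_comm (g i) T1, smul_comm (g i) (∏ j, (t j : A)), hn', smul_comm T1 x]
  have hNN : ∀ i j, g j • N i = g i • N j := fun i j => by
    obtain ⟨d, hd⟩ := Finset.dvd_prod_of_mem (fun ij : Fin k × Fin k => (c ij.1 ij.2 : A))
      (Finset.mem_univ (i, j))
    refine sub_eq_zero.1 ?_
    show g j • (T1 • n' i) - g i • (T1 • n' j) = 0
    rw [smul_comm, smul_comm (g i) T1, ← smul_sub, show T1 = (c i j : A) * d from hd, mul_comm,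
      mul_smul, hc, smul_zero]
  have hex : ∀ q : PrimeSpectrum A, ¬ p ≤ q.asIdeal → ∃ i, g i ∉ q.asIdeal := fun q hq => by
    by_contra! hall
    exact hq (hg ▸ Submodule.span_le.2 (Set.range_subset_iff.2 hall))
  choose pick hpick using hex
  let σ : Fam p M := fun q hq => LocalizedModule.mk (N (pick q hq)) ⟨g (pick q hq), hpick q hq⟩
  have hσ : ∀ (q : PrimeSpectrum A) (hq : ¬ p ≤ q.asIdeal) (i : Fin k) (hi : g i ∉ q.asIdeal),
      σ q hq = LocalizedModule.mk (N i) (⟨g i, hi⟩ : q.asIdeal.primeCompl) := fun q hq i hi => by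
    rw [LocalizedModule.mk_eq]
    exact ⟨1, by simp only [Submonoid.smul_def, OneMemClass.coe_one, one_smul]; exact hNN _ _⟩
  obtain ⟨μ, hμ⟩ := hsurj σ fun q hq =>
    ⟨N (pick q hq), g (pick q hq), hgp _, hpick q hq, fun q' hq' hs' => hσ q' hq' _ hs'⟩
  have hkey : x • μ = m' := by
    refine sub_eq_zero.1 (hinj _ fun q hq => ?_)
    obtain ⟨e, he⟩ := LocalizedModule.mk_eq.1 (hμ q hq)
    simp only [Submonoid.smul_def, OneMemClass.coe_one, one_smul] at he
    refine ⟨(e : A) * g (pick q hq), fun hmem => (q.2.mem_or_mem hmem).elim e.2 (hpick q hq), ?_⟩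
    rw [smul_sub, mul_smul, mul_smul, hN (pick q hq), smul_comm (g _) x, smul_comm (e : A) x,
      smul_comm (e : A) x, ← smul_sub, ← he, sub_self, smul_zero]
  refine (maximalIdeal.isMaximal Ap).ne_top (Ideal.eq_top_iff_one _ |>.2 ?_)
  rw [hξ, Submodule.mem_colon_singleton, Submodule.mem_bot, one_smul, Submodule.Quotient.mk_eq_zero,
    Submodule.mem_smul_pointwise_iff_exists]
  have hu : IsUnit (algebraMap A Ap ((T1 * ∏ j, (t j : A)) * s0)) := by
    rw [map_mul, map_mul, map_prod, map_prod]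
    exact ((IsUnit.prod_univ_iff.2 fun ij : Fin k × Fin k => IsLocalization.map_units Ap (c ij.1 ij.2)).mul
      (IsUnit.prod_univ_iff.2 fun j => IsLocalization.map_units Ap (t j))).mul (IsLocalization.map_units Ap s0)
  refine ⟨(↑hu.unit⁻¹ : Ap) • f μ, Submodule.mem_top, ?_⟩
  rw [smul_comm, algebraMap_smul, ← map_smul, hkey]
  refine (IsUnit.smul_left_cancel hu).1 ?_
  rw [← mul_smul, hu.mul_val_inv, one_smul, algebraMap_smul, mul_smul (T1 * _) (s0 : A),
    ← Submonoid.smul_def, IsLocalizedModule.mk'_cancel', ← map_smul]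

/-- `M` is `Z`-closed iff it has depth at least two along `Z`. -/
theorem isClosedAlong_iff [IsNoetherianRing A] [Module.Finite A M] {Z : Set (PrimeSpectrum A)}
    (hZ : StableUnderSpecialization Z) :
    EGA4.IsClosedAlong Z M ↔ ∀ p : PrimeSpectrum A, p ∈ Z →
      (2 : ℕ∞) ≤ _root_.LocCoh.depth (Localization.AtPrime p.asIdeal) (LocalizedModule p.asIdeal.primeCompl M) := by
  constructor
  · intro h p hp
    have hsub : PrimeSpectrum.zeroLocus (p.asIdeal : Set A) ⊆ Z := fun q hq =>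
      hZ ((PrimeSpectrum.le_iff_specializes p q).mp hq) hp
    have hpure : EGA4.IsPureAlong Z M := fun J hJ => (h J hJ).1
    exact depth_of_closed p.asIdeal (restrCompl_injective_iff.1 (h _ hsub).1)
      (restrCompl_surjective_iff.1 (h _ hsub).2)
      fun hass => (isPureAlong_iff_associatedPrimes hZ).1 hpure p hass hp
  · intro h J hJ
    have hpure : EGA4.IsPureAlong Z M := (isPureAlong_iff_associatedPrimes hZ).2 fun p hass hp =>
      (CommAlg6.one_le_depth_localized_iff p.asIdeal).1 (le_trans (by norm_num) (h p hp)) hass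
    exact ⟨hpure J hJ, restrCompl_surjective_iff.2
      (surjective_of_depth (restrCompl_injective_iff.1 (hpure J hJ)) fun p hp => h p (hJ hp))⟩

end Groth.Agent.Pure6
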