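import Groth.Prelude.Def_EGA4c
import Mathlib.RingTheory.Ideal.AssociatedPrime.Basic
import Mathlib.RingTheory.Support

/-! Purity along a set of primes, in terms of associated primes. -/

universe u

open AlgebraicGeometry CategoryTheory Opposite

namespace Groth.Agent.Pure6

variable {A : Type u} [CommRing A] (M : Type u) [AddCommGroup M] [Module A M]

/-- The canonical map `M → Γ(U, M~)`. -/
noncomputable def toSec (U : (Spec (CommRingCat.of A)).Opens) (m : M) :
    ((EGA4.tildeOf A M).val.obj (op U)) :=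
  (tilde.toOpen (ModuleCat.of (CommRingCat.of A) M) U).hom m

theorem toSec_bijective : Function.Bijective (toSec (A := A) M ⊤) :=
  (ConcreteCategory.isIso_iff_bijective (tilde.toOpen (ModuleCat.of (CommRingCat.of A) M) ⊤)).mp
    (tilde.isIso_toOpen_top (R := CommRingCat.of A) (M := ModuleCat.of (CommRingCat.of A) M))

theorem restrCompl_toSec (J : Ideal A) (m : M) :
    EGA4.restrCompl A J M (toSec M ⊤ m) = toSec M (EGA4.openCompl A J) m := rfl

theorem toSec_eq_zero_iff (U : (Spec (CommRingCat.of A)).Opens) (m : M) :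
    toSec M U m = 0 ↔ ∀ p : PrimeSpectrum A, p ∈ U → LocalizedModule.mk m (1 : p.asIdeal.primeCompl) = 0 := by
  constructor
  · intro h p hp
    exact congrFun (congrArg Subtype.val h) ⟨p, hp⟩
  · intro h
    exact Subtype.ext (funext fun x => h x.1 x.2)

variable {M}

theorem mk_eq_zero_iff (p : PrimeSpectrum A) (m : M) :
    LocalizedModule.mk m (1 : p.asIdeal.primeCompl) = 0 ↔ ∃ s : A, s ∉ p.asIdeal ∧ s • m = 0 := by
  rw [← LocalizedModule.zero_mk (1 : p.asIdeal.primeCompl), LocalizedModule.mk_eq]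
  constructor
  · rintro ⟨u, hu⟩
    exact ⟨u, u.2, by simpa [Submonoid.smul_def] using hu⟩
  · rintro ⟨s, hs, hm⟩
    exact ⟨⟨s, hs⟩, by simpa [Submonoid.smul_def] using hm⟩

/-- `M` is pure along `Z` iff every element killed off a closed subset inside `Z` is zero. -/
theorem isPureAlong_iff (Z : Set (PrimeSpectrum A)) :
    EGA4.IsPureAlong Z M ↔ ∀ J : Ideal A, PrimeSpectrum.zeroLocus (J : Set A) ⊆ Z →
      ∀ m : M, (∀ p : PrimeSpectrum A, ¬ J ≤ p.asIdeal → ∃ s, s ∉ p.asIdeal ∧ s • m = 0) → m = 0 := by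
  refine forall_congr' fun J => imp_congr_right fun _ => ?_
  have key : ∀ m : M, toSec M (EGA4.openCompl A J) m = 0 ↔
      ∀ p : PrimeSpectrum A, ¬ J ≤ p.asIdeal → ∃ s, s ∉ p.asIdeal ∧ s • m = 0 := fun m => by
    rw [toSec_eq_zero_iff]
    exact forall_congr' fun p => imp_congr Iff.rfl (mk_eq_zero_iff p m)
  have h0 : toSec (A := A) M ⊤ 0 = 0 := map_zero (tilde.toOpen (ModuleCat.of (CommRingCat.of A) M) ⊤).hom
  constructor
  · intro h m hm
    refine (toSec_bijective M).1 (h ?_)
    rw [h0, map_zero, restrCompl_toSec]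
    exact (key m).mpr hm
  · intro h
    refine (injective_iff_map_eq_zero (EGA4.restrCompl A J M).hom).mpr fun x hx => ?_
    obtain ⟨m, rfl⟩ := (toSec_bijective M).2 x
    have hx' : toSec M (EGA4.openCompl A J) m = 0 := hx
    rw [h m ((key m).mp hx'), h0]

/-- Over a Noetherian ring, purity along `Z` means no associated prime lies in `Z`. -/
theorem isPureAlong_iff_associatedPrimes [IsNoetherianRing A] {Z : Set (PrimeSpectrum A)}
    (hZ : StableUnderSpecialization Z) :
    EGA4.IsPureAlong Z M ↔ ∀ p : PrimeSpectrum A, p.asIdeal ∈ associatedPrimes A M → p ∉ Z := by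
  rw [isPureAlong_iff]
  constructor
  · intro h p hp hpZ
    obtain ⟨_, m, hm⟩ := (isAssociatedPrime_iff (R := A)).mp hp
    have hsub : PrimeSpectrum.zeroLocus (p.asIdeal : Set A) ⊆ Z := fun q hq =>
      hZ ((PrimeSpectrum.le_iff_specializes p q).mp hq) hpZ
    have hm0 : m = 0 := by
      refine h p.asIdeal hsub m fun q hq => ?_
      obtain ⟨s, hs, hs'⟩ := SetLike.not_le_iff_exists.mp hq
      refine ⟨s, hs', ?_⟩
      rw [hm] at hs
      simpa [Submodule.mem_colon_singleton] using hs
    apply p.2.ne_top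
    rw [hm, hm0, Ideal.eq_top_iff_one]
    simp [Submodule.mem_colon_singleton]
  · intro h J hJ m hm
    by_contra hne
    obtain ⟨P, hP, hle⟩ := exists_le_isAssociatedPrime_of_isNoetherianRing A m hne
    have hsub : ∀ a : A, a • m = 0 → a ∈ P := fun a ha =>
      hle (by simpa [Submodule.mem_colon_singleton] using ha)
    by_cases hJP : J ≤ P
    · exact h ⟨P, hP.isPrime⟩ hP (hJ hJP)
    · obtain ⟨s, hs, hsm⟩ := hm ⟨P, hP.isPrime⟩ hJP
      exact hs (hsub s hsm)

end Groth.Agent.Pure6
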